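import Mathlib

/-!
# helper6: Roberts' derivation on `k[x,y,z,s,t,u,v]` — invariants of positive degree have all
coefficients in `(x,y,z)` (S11217)
-/

set_option autoImplicit false
set_option linter.unusedSectionVars false
set_option linter.unusedVariables false
set_option linter.unusedSimpArgs false
set_option linter.style.haveILetI false
set_option maxHeartbeats 400000

universe u
open MvPolynomial

namespace Groth.Agent.Lib.Helper6.Roberts

variable (k : Type u) [Field k] [CharZero k] (m : ℕ)

noncomputable def gvec : Fin 7 → MvPolynomial (Fin 7) k :=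
  ![0, 0, 0, X 0 ^ (m + 1), X 1 ^ (m + 1), X 2 ^ (m + 1), (X 0 * X 1 * X 2) ^ m]

noncomputable def a6 : Fin 7 →₀ ℕ :=
  Finsupp.single 0 m + Finsupp.single 1 m + Finsupp.single 2 m

theorem xyz_pow : ((X 0 * X 1 * X 2 : MvPolynomial (Fin 7) k)) ^ m = monomial (a6 m) 1 := by
  rw [mul_pow, mul_pow, X_pow_eq_monomial, X_pow_eq_monomial, X_pow_eq_monomial, monomial_mul,
    monomial_mul, one_mul, one_mul]
  rfl

theorem delta_eq (f : MvPolynomial (Fin 7) k) :
    mkDerivation k (gvec k m) f =
      monomial (Finsupp.single 0 (m + 1)) 1 * pderiv 3 f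
        + monomial (Finsupp.single 1 (m + 1)) 1 * pderiv 4 f
        + monomial (Finsupp.single 2 (m + 1)) 1 * pderiv 5 f
        + monomial (a6 m) 1 * pderiv 6 f := by
  have key : mkDerivation k (gvec k m) =
      (X 0 ^ (m + 1) : MvPolynomial (Fin 7) k) • (pderiv 3 : Derivation k _ _)
        + (X 1 ^ (m + 1) : MvPolynomial (Fin 7) k) • (pderiv 4 : Derivation k _ _)
        + (X 2 ^ (m + 1) : MvPolynomial (Fin 7) k) • (pderiv 5 : Derivation k _ _)
        + ((X 0 * X 1 * X 2) ^ m : MvPolynomial (Fin 7) k) • (pderiv 6 : Derivation k _ _) := by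
    apply MvPolynomial.derivation_ext
    intro i
    fin_cases i <;> simp [gvec, pderiv_X, Pi.single_apply]
  rw [key]
  simp only [Derivation.add_apply, Derivation.smul_apply, smul_eq_mul]
  rw [xyz_pow, X_pow_eq_monomial, X_pow_eq_monomial, X_pow_eq_monomial]

theorem coeff_delta (f : MvPolynomial (Fin 7) k) (e : Fin 7 →₀ ℕ) :
    coeff e (mkDerivation k (gvec k m) f) =
      (if Finsupp.single 0 (m + 1) ≤ e then
          coeff (e - Finsupp.single 0 (m + 1) + Finsupp.single 3 1) f
            * ((((e - Finsupp.single 0 (m + 1) : Fin 7 →₀ ℕ) 3 : ℕ) : k) + 1) else 0)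
      + (if Finsupp.single 1 (m + 1) ≤ e then
          coeff (e - Finsupp.single 1 (m + 1) + Finsupp.single 4 1) f
            * ((((e - Finsupp.single 1 (m + 1) : Fin 7 →₀ ℕ) 4 : ℕ) : k) + 1) else 0)
      + (if Finsupp.single 2 (m + 1) ≤ e then
          coeff (e - Finsupp.single 2 (m + 1) + Finsupp.single 5 1) f
            * ((((e - Finsupp.single 2 (m + 1) : Fin 7 →₀ ℕ) 5 : ℕ) : k) + 1) else 0)
      + (if a6 m ≤ e then
          coeff (e - a6 m + Finsupp.single 6 1) f
            * ((((e - a6 m : Fin 7 →₀ ℕ) 6 : ℕ) : k) + 1) else 0) := by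
  rw [delta_eq, coeff_add, coeff_add, coeff_add, coeff_monomial_mul', coeff_monomial_mul',
    coeff_monomial_mul', coeff_monomial_mul', coeff_pderiv, coeff_pderiv, coeff_pderiv,
    coeff_pderiv]
  simp only [one_mul]

end Groth.Agent.Lib.Helper6.Roberts
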