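import Groth.Agent.Lib.Helper6.Roberts.RDa

set_option autoImplicit false
set_option linter.unusedSectionVars false
set_option linter.unusedVariables false
set_option linter.unusedSimpArgs false
set_option linter.style.haveILetI false
set_option maxHeartbeats 400000

universe u
open MvPolynomial

namespace Groth.Agent.Lib.Helper6.Roberts

variable (k : Type u) [Field k] [CharZero k] (m : ℕ)

theorem cast_succ_ne (n : ℕ) : ((n : k) + 1) ≠ 0 := Nat.cast_add_one_ne_zero n

theorem step3 (f : MvPolynomial (Fin 7) k) (hδ : mkDerivation k (gvec k m) f = 0) (hm : 1 ≤ m)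
    (d' : Fin 7 →₀ ℕ) (h0 : d' 0 = 0) (h1 : d' 1 = 0) (h2 : d' 2 = 0) :
    coeff (d' + Finsupp.single 3 1) f = 0 := by
  have h := coeff_delta k m f (d' + Finsupp.single 0 (m + 1))
  rw [hδ, coeff_zero] at h
  have c1 : Finsupp.single 0 (m + 1) ≤ d' + Finsupp.single 0 (m + 1) := le_add_self
  have c2 : ¬ Finsupp.single 1 (m + 1) ≤ d' + Finsupp.single 0 (m + 1) := by
    intro hle
    have := hle 1
    simp [h1] at this
  have c3 : ¬ Finsupp.single 2 (m + 1) ≤ d' + Finsupp.single 0 (m + 1) := by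
    intro hle
    have := hle 2
    simp [h2] at this
  have c4 : ¬ a6 m ≤ d' + Finsupp.single 0 (m + 1) := by
    intro hle
    have := hle 1
    simp [a6, h1] at this
    omega
  rw [if_pos c1, if_neg c2, if_neg c3, if_neg c4, add_tsub_cancel_right, add_zero, add_zero,
    add_zero] at h
  rcases mul_eq_zero.1 h.symm with h' | h'
  · exact h'
  · exact absurd h' (cast_succ_ne k _)

theorem step4 (f : MvPolynomial (Fin 7) k) (hδ : mkDerivation k (gvec k m) f = 0) (hm : 1 ≤ m)
    (d' : Fin 7 →₀ ℕ) (h0 : d' 0 = 0) (h1 : d' 1 = 0) (h2 : d' 2 = 0) :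
    coeff (d' + Finsupp.single 4 1) f = 0 := by
  have h := coeff_delta k m f (d' + Finsupp.single 1 (m + 1))
  rw [hδ, coeff_zero] at h
  have c1 : Finsupp.single 1 (m + 1) ≤ d' + Finsupp.single 1 (m + 1) := le_add_self
  have c2 : ¬ Finsupp.single 0 (m + 1) ≤ d' + Finsupp.single 1 (m + 1) := by
    intro hle
    have := hle 0
    simp [h0] at this
  have c3 : ¬ Finsupp.single 2 (m + 1) ≤ d' + Finsupp.single 1 (m + 1) := by
    intro hle
    have := hle 2
    simp [h2] at this
  have c4 : ¬ a6 m ≤ d' + Finsupp.single 1 (m + 1) := by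
    intro hle
    have := hle 0
    simp [a6, h0] at this
    omega
  rw [if_pos c1, if_neg c2, if_neg c3, if_neg c4, add_tsub_cancel_right, add_zero, add_zero,
    zero_add] at h
  rcases mul_eq_zero.1 h.symm with h' | h'
  · exact h'
  · exact absurd h' (cast_succ_ne k _)

theorem step5 (f : MvPolynomial (Fin 7) k) (hδ : mkDerivation k (gvec k m) f = 0) (hm : 1 ≤ m)
    (d' : Fin 7 →₀ ℕ) (h0 : d' 0 = 0) (h1 : d' 1 = 0) (h2 : d' 2 = 0) :
    coeff (d' + Finsupp.single 5 1) f = 0 := by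
  have h := coeff_delta k m f (d' + Finsupp.single 2 (m + 1))
  rw [hδ, coeff_zero] at h
  have c1 : Finsupp.single 2 (m + 1) ≤ d' + Finsupp.single 2 (m + 1) := le_add_self
  have c2 : ¬ Finsupp.single 0 (m + 1) ≤ d' + Finsupp.single 2 (m + 1) := by
    intro hle
    have := hle 0
    simp [h0] at this
  have c3 : ¬ Finsupp.single 1 (m + 1) ≤ d' + Finsupp.single 2 (m + 1) := by
    intro hle
    have := hle 1
    simp [h1] at this
  have c4 : ¬ a6 m ≤ d' + Finsupp.single 2 (m + 1) := by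
    intro hle
    have := hle 0
    simp [a6, h0] at this
    omega
  rw [if_pos c1, if_neg c2, if_neg c3, if_neg c4, add_tsub_cancel_right, add_zero, zero_add,
    zero_add] at h
  rcases mul_eq_zero.1 h.symm with h' | h'
  · exact h'
  · exact absurd h' (cast_succ_ne k _)

theorem step6 (f : MvPolynomial (Fin 7) k) (hδ : mkDerivation k (gvec k m) f = 0)
    (d' : Fin 7 →₀ ℕ) (h0 : d' 0 = 0) (h1 : d' 1 = 0) (h2 : d' 2 = 0) :
    coeff (d' + Finsupp.single 6 1) f = 0 := by
  have h := coeff_delta k m f (d' + a6 m)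
  rw [hδ, coeff_zero] at h
  have c1 : a6 m ≤ d' + a6 m := le_add_self
  have c2 : ¬ Finsupp.single 0 (m + 1) ≤ d' + a6 m := by
    intro hle
    have := hle 0
    simp [a6, h0] at this
  have c3 : ¬ Finsupp.single 1 (m + 1) ≤ d' + a6 m := by
    intro hle
    have := hle 1
    simp [a6, h1] at this
  have c4 : ¬ Finsupp.single 2 (m + 1) ≤ d' + a6 m := by
    intro hle
    have := hle 2
    simp [a6, h2] at this
  rw [if_pos c1, if_neg c2, if_neg c3, if_neg c4, add_tsub_cancel_right, add_zero, zero_add,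
    zero_add] at h
  rcases mul_eq_zero.1 h.symm with h' | h'
  · exact h'
  · exact absurd h' (cast_succ_ne k _)

theorem eq_sub_add (d : Fin 7 →₀ ℕ) (i : Fin 7) (hi : d i ≠ 0) :
    d = (d - Finsupp.single i 1) + Finsupp.single i 1 := by
  rw [tsub_add_cancel_of_le]
  rw [Finsupp.single_le_iff]
  omega

theorem sub_apply_ne (d : Fin 7 →₀ ℕ) (i j : Fin 7) (hij : j ≠ i) :
    (d - Finsupp.single i 1 : Fin 7 →₀ ℕ) j = d j := by
  rw [Finsupp.tsub_apply, Finsupp.single_eq_of_ne hij, tsub_zero]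

theorem main (hm : 1 ≤ m) (n : ℕ) (hn : 1 ≤ n)
    (f : MvPolynomial (Fin 7) k)
    (hf : MvPolynomial.IsWeightedHomogeneous (![0, 0, 0, 1, 1, 1, 1] : Fin 7 → ℕ) f n)
    (hδ : mkDerivation k (gvec k m) f = 0) :
    ∀ d ∈ f.support, 0 < d 0 + d 1 + d 2 := by
  intro d hd
  by_contra hcon
  have h0 : d 0 = 0 := by omega
  have h1 : d 1 = 0 := by omega
  have h2 : d 2 = 0 := by omega
  have hc : coeff d f ≠ 0 := by rwa [mem_support_iff] at hd
  have key : ∀ i : Fin 7, i ≠ 0 → i ≠ 1 → i ≠ 2 →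
      (∀ d' : Fin 7 →₀ ℕ, d' 0 = 0 → d' 1 = 0 → d' 2 = 0 →
        coeff (d' + Finsupp.single i 1) f = 0) → d i = 0 := by
    intro i hi0 hi1 hi2 hstep
    by_contra hne
    apply hc
    rw [eq_sub_add d i hne]
    apply hstep
    · rw [sub_apply_ne d i 0 (Ne.symm hi0), h0]
    · rw [sub_apply_ne d i 1 (Ne.symm hi1), h1]
    · rw [sub_apply_ne d i 2 (Ne.symm hi2), h2]
  have h3 : d 3 = 0 := key 3 (by decide) (by decide) (by decide) (step3 k m f hδ hm)
  have h4 : d 4 = 0 := key 4 (by decide) (by decide) (by decide) (step4 k m f hδ hm)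
  have h5 : d 5 = 0 := key 5 (by decide) (by decide) (by decide) (step5 k m f hδ hm)
  have h6 : d 6 = 0 := key 6 (by decide) (by decide) (by decide) (step6 k m f hδ)
  have hw := hf hc
  rw [Finsupp.weight_apply, Finsupp.sum_fintype _ _ (fun i => by simp)] at hw
  simp [Fin.sum_univ_succ, h0, h1, h2, h3, h4, h5, h6] at hw
  omega

end Groth.Agent.Lib.Helper6.Roberts
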